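import Groth.Prelude.Def_WeakSerre
import Groth.Agent.Lib.KInj.DerivedAdj
import Groth.Agent.Lib.KInj.Derived

/-! The derived category of a coreflective weak Serre subcategory. -/

set_option autoImplicit false
set_option linter.style.haveILetI false
set_option linter.unusedSectionVars false
set_option backward.isDefEq.respectTransparency false
set_option backward.isDefEq.respectTransparency.types false

universe w' w v u

open CategoryTheory CategoryTheory.Limits

namespace Groth.Agent.TorsD16

open KInjLib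

variable {C : Type u} [Category.{v} C] [Abelian C] [HasDerivedCategory.{w} C]
  (P : ObjectProperty C) [WSerre.IsWeakSerre P] [HasDerivedCategory.{w'} P.FullSubcategory]
  {t : C ⥤ P.FullSubcategory} [t.Additive] (adj : P.ι ⊣ t)

local notation "ιC" => P.ι.mapHomologicalComplex (ComplexShape.up ℤ)
local notation "tC" => t.mapHomologicalComplex (ComplexShape.up ℤ)

/-- The counit on complexes. -/
noncomputable def eps (I : CochainComplex C ℤ) : (P.ι.mapHomologicalComplex (ComplexShape.up ℤ)).obj
    ((t.mapHomologicalComplex (ComplexShape.up ℤ)).obj I) ⟶ I :=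
  (adjComplexes adj (ComplexShape.up ℤ)).counit.app I

/-- Homology of a complex in the image lies in the subcategory. -/
theorem cohIn_Q_map (K : CochainComplex P.FullSubcategory ℤ) (i : ℤ) :
    P (((ιC).obj K).homology i) :=
  P.prop_of_iso ((K.sc i).mapHomologyIso P.ι).symm (K.homology i).property

theorem cohIn_iff (K : CochainComplex C ℤ) :
    WSerre.cohIn P (DerivedCategory.Q.obj K) ↔ ∀ i : ℤ, P (K.homology i) :=
  forall_congr' fun i => P.prop_iff_of_iso ((DerivedCategory.homologyFunctorFactors C i).app K)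

theorem cohIn_of_iso {X Y : DerivedCategory C} (e : X ≅ Y) (h : WSerre.cohIn P X) : WSerre.cohIn P Y :=
  fun i => P.prop_of_iso ((DerivedCategory.homologyFunctor C i).mapIso e) (h i)

variable {P} (hC : ∀ M : CochainComplex C ℤ, ∃ (I : CochainComplex C ℤ) (f : M ⟶ I),
    I.IsKInjective ∧ _root_.QuasiIso f ∧ Mono f ∧ ∀ n, Injective (I.X n))
  (H : ∀ I : CochainComplex C ℤ, (∀ n, Injective (I.X n)) → (∀ i, P (I.homology i)) → QuasiIso (eps P adj I))

include hC H in
theorem exists_rep (Y : DerivedCategory P.FullSubcategory) :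
    ∃ I : CochainComplex C ℤ, I.IsKInjective ∧ QuasiIso (eps P adj I) ∧
      Nonempty (Y ≅ DerivedCategory.Q.obj ((tC).obj I)) := by
  obtain ⟨I, f, hI, hf, -, hinj⟩ := hC ((ιC).obj (DerivedCategory.Q.objPreimage Y))
  have hε := H I hinj fun i => P.prop_of_iso (asIso (HomologicalComplex.homologyMap f i)) (cohIn_Q_map P _ i)
  let g := (adjComplexes adj _).homEquiv _ _ f
  have hg : (ιC).map g ≫ eps P adj I = f :=
    (Adjunction.homEquiv_counit (adjComplexes adj _) _ _ _).symm.trans
      (((adjComplexes adj _).homEquiv _ _).symm_apply_apply f)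
  haveI : QuasiIso ((ιC).map g ≫ eps P adj I) := hg.symm ▸ hf
  haveI : QuasiIso ((ιC).map g) := quasiIso_of_comp_right _ (eps P adj I)
  haveI : QuasiIso g := (HomologicalComplex.quasiIso_map_iff_of_preservesHomology g P.ι).1 inferInstance
  exact ⟨I, hI, hε, ⟨(DerivedCategory.Q.objObjPreimageIso Y).symm ≪≫ asIso (DerivedCategory.Q.map g)⟩⟩

/-- The bijection on maps out of a complex into the coreflection of a K-injective complex. -/
theorem bijective_map (K : CochainComplex P.FullSubcategory ℤ) (I : CochainComplex C ℤ) (hI : I.IsKInjective)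
    (hε : QuasiIso (eps P adj I)) :
    Function.Bijective ((WSerre.toDerived P).map :
      (DerivedCategory.Q.obj K ⟶ DerivedCategory.Q.obj ((tC).obj I)) → _) := by
  haveI := hI
  haveI := hε
  haveI : CochainComplex.IsKInjective ((tC).obj I) := isKInjective_of_adj t P.ι adj I
  let e := P.ι.mapDerivedCategoryFactors
  constructor
  · intro a b hab
    obtain ⟨φ, rfl⟩ := exists_map_eq a
    obtain ⟨ψ, rfl⟩ := exists_map_eq b
    have h1 : DerivedCategory.Q.map ((ιC).map φ) = DerivedCategory.Q.map ((ιC).map ψ) := by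
      rw [← cancel_epi (e.hom.app K), ← Functor.mapDerivedCategoryFactors_hom_naturality,
        ← Functor.mapDerivedCategoryFactors_hom_naturality]
      exact congrArg (· ≫ e.hom.app _) hab
    have h2 : DerivedCategory.Q.map ((ιC).map φ ≫ eps P adj I) = DerivedCategory.Q.map ((ιC).map ψ ≫ eps P adj I) := by
      rw [Functor.map_comp, Functor.map_comp, h1]
    obtain ⟨h⟩ := (map_eq_iff _ _).1 h2
    have h3 : ((adjHomotopy adj _).homEquiv _ _).symm ((HomotopyCategory.quotient _ _).map φ) =
        ((adjHomotopy adj _).homEquiv _ ((HomotopyCategory.quotient C _).obj I)).symm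
          ((HomotopyCategory.quotient _ _).map ψ) := by
      rw [Adjunction.homEquiv_counit, Adjunction.homEquiv_counit]
      exact HomotopyCategory.eq_of_homotopy _ _ h
    exact (map_eq_iff φ ψ).2 ⟨HomotopyCategory.homotopyOfEq _ _ (Equiv.injective _ h3)⟩
  · intro b
    obtain ⟨χ, hχ⟩ := exists_map_eq (e.inv.app K ≫ b ≫ e.hom.app _ ≫ DerivedCategory.Q.map (eps P adj I))
    refine ⟨DerivedCategory.Q.map ((adjComplexes adj _).homEquiv _ _ χ), ?_⟩
    show P.ι.mapDerivedCategory.map _ = b
    haveI : IsIso (DerivedCategory.Q.map (eps P adj I)) := inferInstance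
    rw [← cancel_mono (e.hom.app ((tC).obj I)), Functor.mapDerivedCategoryFactors_hom_naturality,
      ← cancel_mono (DerivedCategory.Q.map (eps P adj I)), Category.assoc, ← Functor.map_comp,
      show (ιC).map ((adjComplexes adj _).homEquiv _ _ χ) ≫ eps P adj I = χ from
        (Adjunction.homEquiv_counit (adjComplexes adj _) _ _ _).symm.trans
          (((adjComplexes adj _).homEquiv _ _).symm_apply_apply χ), hχ, Category.assoc]
    simp [e]

include adj hC H in
theorem main : (WSerre.toDerived P).Full ∧ (WSerre.toDerived P).Faithful ∧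
    ∀ K : DerivedCategory C, WSerre.cohIn P K ↔ (WSerre.toDerived P).essImage K := by
  refine ⟨⟨fun {X Y} b => ?_⟩, ⟨fun {X Y} a a' haa => ?_⟩, fun K => ⟨fun hK => ?_, ?_⟩⟩
  · obtain ⟨I, hI, hε, ⟨e⟩⟩ := exists_rep adj hC H Y
    let d := DerivedCategory.Q.objObjPreimageIso X
    obtain ⟨a, ha⟩ := (bijective_map adj (DerivedCategory.Q.objPreimage X) I hI hε).2
      ((WSerre.toDerived P).map d.hom ≫ b ≫ (WSerre.toDerived P).map e.hom)
    refine ⟨d.inv ≫ a ≫ e.inv, ?_⟩
    simp only [Functor.map_comp, ha, Category.assoc]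
    simp [← Functor.map_comp_assoc, ← Functor.map_comp]
  · obtain ⟨I, hI, hε, ⟨e⟩⟩ := exists_rep adj hC H Y
    let d := DerivedCategory.Q.objObjPreimageIso X
    have h := (bijective_map adj (DerivedCategory.Q.objPreimage X) I hI hε).1
      (a₁ := d.hom ≫ a ≫ e.hom) (a₂ := d.hom ≫ a' ≫ e.hom) (by simp only [Functor.map_comp, haa])
    simpa using h
  · obtain ⟨I, f, hI, hf, -, hinj⟩ := hC (DerivedCategory.Q.objPreimage K)
    let e : K ≅ DerivedCategory.Q.obj I :=
      (DerivedCategory.Q.objObjPreimageIso K).symm ≪≫ asIso (DerivedCategory.Q.map f)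
    haveI := H I hinj ((cohIn_iff P I).1 (cohIn_of_iso P e hK))
    exact ⟨DerivedCategory.Q.obj ((tC).obj I), ⟨(P.ι.mapDerivedCategoryFactors.app _ ≪≫
      asIso (DerivedCategory.Q.map (eps P adj I))) ≪≫ e.symm⟩⟩
  · rintro ⟨X, ⟨e⟩⟩
    let d := DerivedCategory.Q.objObjPreimageIso X
    exact cohIn_of_iso P ((P.ι.mapDerivedCategoryFactors.app _).symm ≪≫ (WSerre.toDerived P).mapIso d ≪≫ e)
      ((cohIn_iff P _).2 (cohIn_Q_map P _))

end Groth.Agent.TorsD16
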