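import Groth.Prelude.Def_SiteCmp
import Mathlib.Algebra.Category.Grp.Adjunctions
import Mathlib.Algebra.Category.Grp.EpiMono
import Mathlib.Algebra.FreeAbelianGroup.Finsupp
import Mathlib.CategoryTheory.Sites.LeftExact
import Mathlib.GroupTheory.OrderOfElement

/-! The torsion subsheaf of an abelian sheaf, and divisibility of injective sheaves. -/

set_option autoImplicit false
set_option linter.style.haveILetI false
set_option linter.unusedSectionVars false
set_option backward.isDefEq.respectTransparency false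
set_option backward.isDefEq.respectTransparency.types false

universe u

open CategoryTheory CategoryTheory.Limits Opposite

noncomputable section

namespace Groth.Agent.TorsD16

variable {C : Type u} [SmallCategory C] {J : GrothendieckTopology C} (F : Sheaf J AddCommGrpCat.{u})

/-- The sieve where a section has finite order. -/
def torSieve {U : C} (s : F.obj.obj (op U)) : Sieve U where
  arrows V g := IsOfFinAddOrder ((F.obj.map g.op).hom s)
  downward_closed {V W g} hg h := by
    simp only [op_comp, Functor.map_comp, AddCommGrpCat.hom_comp, AddMonoidHom.comp_apply]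
    exact (F.obj.map h.op).hom.isOfFinAddOrder hg

theorem isTorsionSh_iff : SiteCmp.IsTorsionSh J F ↔ ∀ (U : C) (s : F.obj.obj (op U)), torSieve F s ∈ J U :=
  ⟨fun h U s => by
    obtain ⟨S, hS, hs⟩ := h U s
    exact J.superset_covering (fun V g hg => hs g hg) hS,
  fun h U s => ⟨torSieve F s, h U s, fun _ _ hg => hg⟩⟩

theorem isOfFinAddOrder_add {A : Type u} [AddCommGroup A] {a b : A} (ha : IsOfFinAddOrder a)
    (hb : IsOfFinAddOrder b) : IsOfFinAddOrder (a + b) :=
  (AddCommute.all a b).isOfFinAddOrder_add ha hb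

/-- The torsion sections. -/
def sub (U : Cᵒᵖ) : AddSubgroup (F.obj.obj U) where
  carrier := {s | torSieve F (U := U.unop) s ∈ J U.unop}
  zero_mem' := J.superset_covering (fun V g _ => by
    show IsOfFinAddOrder ((F.obj.map g.op).hom 0)
    rw [map_zero]
    exact IsOfFinAddOrder.zero) (J.top_mem _)
  add_mem' {a b} ha hb := J.superset_covering (fun V g hg => by
    show IsOfFinAddOrder ((F.obj.map g.op).hom (a + b))
    rw [map_add]
    exact isOfFinAddOrder_add hg.1 hg.2) (J.intersection_covering ha hb)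
  neg_mem' {a} ha := J.superset_covering (fun V g hg => by
    show IsOfFinAddOrder ((F.obj.map g.op).hom (-a))
    rw [map_neg]
    exact hg.neg) ha

theorem map_mem_sub {U V : Cᵒᵖ} (g : U ⟶ V) {s : F.obj.obj U} (hs : s ∈ sub F U) :
    (F.obj.map g).hom s ∈ sub F V :=
  J.superset_covering (fun W h hh => by
    show IsOfFinAddOrder ((F.obj.map h.op).hom ((F.obj.map g).hom s))
    have e := ConcreteCategory.congr_hom (F.obj.map_comp g h.op) s
    exact (show (F.obj.map h.op).hom ((F.obj.map g).hom s) = _ from e.symm) ▸ hh)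
    (J.pullback_stable g.unop hs)

/-- The torsion presheaf. -/
def torPre : Cᵒᵖ ⥤ AddCommGrpCat.{u} where
  obj U := AddCommGrpCat.of (sub F U)
  map {U V} g := AddCommGrpCat.ofHom
    (((F.obj.map g).hom.comp (sub F U).subtype).codRestrict (sub F V) fun s => map_mem_sub F g s.2)
  map_id U := by
    ext ⟨s, hs⟩

    exact ConcreteCategory.congr_hom (F.obj.map_id U) s
  map_comp f g := by
    ext ⟨s, hs⟩

    exact ConcreteCategory.congr_hom (F.obj.map_comp f g) s

theorem isSheaf_torPre : Presheaf.IsSheaf J (torPre F) := by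
  rw [Presheaf.isSheaf_iff_isSheaf_forget J (torPre F) (CategoryTheory.forget AddCommGrpCat.{u}),
    isSheaf_iff_isSheaf_of_type]
  have hF := F.property
  rw [Presheaf.isSheaf_iff_isSheaf_forget J F.obj (CategoryTheory.forget AddCommGrpCat.{u}),
    isSheaf_iff_isSheaf_of_type] at hF
  intro U S hS x hx
  let y : Presieve.FamilyOfElements (F.obj ⋙ CategoryTheory.forget AddCommGrpCat.{u}) S.arrows := fun V g hg => (x g hg).1
  have hy : y.Compatible := fun Y₁ Y₂ Z g₁ g₂ f₁ f₂ h₁ h₂ e => congrArg Subtype.val (hx g₁ g₂ h₁ h₂ e)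
  obtain ⟨s, hs, hs'⟩ := hF S hS y hy
  have hmem : s ∈ sub F (op U) := by
    refine J.transitive hS _ fun V g hg => ?_
    refine J.superset_covering (fun W h hh => ?_) (x g hg).2
    show IsOfFinAddOrder ((F.obj.map (h ≫ g).op).hom s)
    have e := ConcreteCategory.congr_hom (F.obj.map_comp g.op h.op) s
    exact (show (F.obj.map (h ≫ g).op).hom s = (F.obj.map h.op).hom (x g hg).1 from
      e.trans (congrArg (F.obj.map h.op).hom (hs g hg))) ▸ hh
  refine ⟨⟨s, hmem⟩, fun V g hg => Subtype.ext (hs g hg), fun t ht => Subtype.ext (hs' t.1 fun V g hg => ?_)⟩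
  exact congrArg Subtype.val (ht g hg)

/-- The torsion subsheaf. -/
def torObj : Sheaf J AddCommGrpCat.{u} := ⟨torPre F, isSheaf_torPre F⟩

/-- The inclusion. -/
def torIncl : torObj F ⟶ F :=
  ⟨{ app := fun U => AddCommGrpCat.ofHom (sub F U).subtype
     naturality := fun _ _ _ => rfl }⟩

theorem isTorsion_torObj : SiteCmp.IsTorsionSh J (torObj F) := fun U s => ⟨torSieve F s.1, s.2, fun V g hg => by
  obtain ⟨n, hn, h⟩ := isOfFinAddOrder_iff_nsmul_eq_zero.1 hg
  exact isOfFinAddOrder_iff_nsmul_eq_zero.2 ⟨n, hn, Subtype.ext h⟩⟩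

instance mono_torIncl : Mono (torIncl F) := by
  haveI : Mono (torIncl F).hom := by
    rw [NatTrans.mono_iff_mono_app]
    exact fun U => (AddCommGrpCat.mono_iff_injective _).2 Subtype.val_injective
  exact (sheafToPresheaf J AddCommGrpCat.{u}).mono_of_mono_map (show Mono (torIncl F).hom from inferInstance)

variable {F}

/-- A map out of a torsion sheaf lands in the torsion subsheaf. -/
def torLift {G : Sheaf J AddCommGrpCat.{u}} (hG : SiteCmp.IsTorsionSh J G) (φ : G ⟶ F) : G ⟶ torObj F :=
  ⟨{ app := fun U => AddCommGrpCat.ofHom ((φ.hom.app U).hom.codRestrict (sub F U) fun s => by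
      refine J.superset_covering (fun V g hg => ?_) ((isTorsionSh_iff G).1 hG U.unop s)
      show IsOfFinAddOrder ((F.obj.map g.op).hom ((φ.hom.app U).hom s))
      exact (show (φ.hom.app (op V)).hom ((G.obj.map g.op).hom s) = (F.obj.map g.op).hom ((φ.hom.app U).hom s) from
        NatTrans.naturality_apply φ.hom g.op s) ▸ (φ.hom.app (op V)).hom.isOfFinAddOrder hg)
     naturality := fun U V g => by
      ext s
      exact Subtype.ext (NatTrans.naturality_apply φ.hom g s) }⟩

theorem torLift_incl {G : Sheaf J AddCommGrpCat.{u}} (hG : SiteCmp.IsTorsionSh J G) (φ : G ⟶ F) :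
    torLift hG φ ≫ torIncl F = φ := rfl

variable (J)

/-- The torsion functor. -/
def torFun : Sheaf J AddCommGrpCat.{u} ⥤ (SiteCmp.torsionSh J).FullSubcategory where
  obj F := ⟨torObj F, isTorsion_torObj F⟩
  map {F G} φ := ObjectProperty.homMk (torLift (isTorsion_torObj F) (torIncl F ≫ φ))
  map_id F := rfl
  map_comp f g := rfl

/-- The torsion functor is right adjoint to the inclusion. -/
def torAdj : (SiteCmp.torsionSh J).ι ⊣ torFun J :=
  Adjunction.mkOfUnitCounit
    { unit := { app := fun G => ObjectProperty.homMk (torLift G.property (𝟙 G.obj))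
                naturality := fun _ _ _ => rfl }
      counit := { app := fun F => torIncl F
                  naturality := fun _ _ _ => rfl }
      left_triangle := rfl
      right_triangle := rfl }

variable {J}

theorem app_nsmul {G : Sheaf J AddCommGrpCat.{u}} (n : ℕ) (U : Cᵒᵖ) (s : G.obj.obj U) :
    ((n • 𝟙 G : G ⟶ G).hom.app U).hom s = n • s := by
  let ev : (G ⟶ G) →+ G.obj.obj U := AddMonoidHom.mk' (fun q => (q.hom.app U).hom s) fun _ _ => rfl
  exact map_nsmul ev n (𝟙 G)

theorem hom_app_injective {F G : Sheaf J AddCommGrpCat.{u}} (φ : F ⟶ G) [Mono φ] (U : Cᵒᵖ) :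
    Function.Injective (φ.hom.app U).hom := by
  have h : Mono ((sheafToPresheaf J AddCommGrpCat.{u}).map φ) := inferInstance
  exact (AddCommGrpCat.mono_iff_injective _).1 ((NatTrans.mono_iff_mono_app _).1 h U)

theorem isTorsion_of_nsmul {G : Sheaf J AddCommGrpCat.{u}} (n : ℕ) (hn : 0 < n) (h : n • 𝟙 G = 0) :
    SiteCmp.IsTorsionSh J G := fun U s => ⟨⊤, J.top_mem U, fun V g _ =>
  isOfFinAddOrder_iff_nsmul_eq_zero.2 ⟨n, hn, by
    rw [← app_nsmul n (op V), h]
    rfl⟩⟩

theorem isZero_of_torsion {G : Sheaf J AddCommGrpCat.{u}} (hG : SiteCmp.IsTorsionSh J G)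
    (h : ∀ n : ℕ, 0 < n → Mono (n • 𝟙 G)) : IsZero G := by
  rw [IsZero.iff_id_eq_zero]
  ext ⟨U⟩ s
  have hs := F_ext s
  exact hs
where
  F_ext {U : C} (s : G.obj.obj (op U)) : s = 0 := by
    obtain ⟨S, hS, hs⟩ := hG U s
    refine (((isSheaf_iff_isSheaf_of_type J _).1
      ((Presheaf.isSheaf_iff_isSheaf_forget J G.obj (CategoryTheory.forget AddCommGrpCat.{u})).1 G.property)) S hS).isSeparatedFor.ext
      fun V g hg => ?_
    show (G.obj.map g.op).hom s = (G.obj.map g.op).hom 0
    obtain ⟨n, hn, e⟩ := isOfFinAddOrder_iff_nsmul_eq_zero.1 (hs g hg)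
    haveI := h n hn
    apply hom_app_injective (n • 𝟙 G) (op V)
    rw [app_nsmul, app_nsmul, e, map_zero, smul_zero]

section Divisible

/-- The free abelian presheaf on an object. -/
abbrev freeP (U : C) : Cᵒᵖ ⥤ AddCommGrpCat.{u} := yoneda.obj U ⋙ AddCommGrpCat.free

/-- The map out of the free presheaf given by a section. -/
def freePDesc {U : C} (G : Cᵒᵖ ⥤ AddCommGrpCat.{u}) (s : G.obj (op U)) : freeP U ⟶ G where
  app V := AddCommGrpCat.ofHom (FreeAbelianGroup.lift fun g => (G.map g.op).hom s)
  naturality V W h := AddCommGrpCat.hom_ext (FreeAbelianGroup.lift_ext _ _ fun g => by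
    show FreeAbelianGroup.lift _ (FreeAbelianGroup.map _ (FreeAbelianGroup.of g)) =
      (G.map h).hom (FreeAbelianGroup.lift _ (FreeAbelianGroup.of g))
    rw [FreeAbelianGroup.map_of_apply, FreeAbelianGroup.lift_apply_of, FreeAbelianGroup.lift_apply_of]
    exact ConcreteCategory.congr_hom (G.map_comp g.op h) s)

theorem mono_nsmul_freeP (U : C) {n : ℕ} (hn : 0 < n) : Mono (n • 𝟙 (freeP U)) := by
  rw [NatTrans.mono_iff_mono_app]
  intro V
  rw [AddCommGrpCat.mono_iff_injective]
  intro a b h
  have hn' : ∀ x : (freeP U).obj V, ((n • 𝟙 (freeP U)).app V).hom x = n • x := fun x =>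
    map_nsmul (AddMonoidHom.mk' (fun q : freeP U ⟶ freeP U => (q.app V).hom x) fun _ _ => rfl) n (𝟙 (freeP U))
  rw [hn', hn'] at h
  apply (FreeAbelianGroup.equivFinsupp _).injective
  have h2 := congrArg (FreeAbelianGroup.equivFinsupp _) h
  rw [map_nsmul, map_nsmul] at h2
  ext i
  have h3 := DFunLike.congr_fun h2 i
  simp only [Finsupp.coe_smul, Pi.smul_apply, nsmul_eq_mul] at h3
  exact mul_left_cancel₀ (by exact_mod_cast hn.ne') h3

theorem epi_nsmul_of_injective (I : Sheaf J AddCommGrpCat.{u}) [Injective I] {n : ℕ} (hn : 0 < n) :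
    Epi (n • 𝟙 I) := by
  refine Preadditive.epi_of_cancel_zero _ fun {W} g hg => ?_
  rw [Preadditive.nsmul_comp, Category.id_comp] at hg
  ext ⟨U⟩ s
  let L := presheafToSheaf J AddCommGrpCat.{u}
  let adj := sheafificationAdjunction J AddCommGrpCat.{u}
  let a : L.obj (freeP U) ⟶ I := (adj.homEquiv _ _).symm (freePDesc I.obj s)
  haveI := mono_nsmul_freeP U hn
  haveI : Mono (L.map (n • 𝟙 (freeP U))) := inferInstance
  have e : L.map (n • 𝟙 (freeP U)) = n • 𝟙 (L.obj (freeP U)) := by
    rw [Functor.map_nsmul, CategoryTheory.Functor.map_id]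
  let b := Injective.factorThru a (L.map (n • 𝟙 (freeP U)))
  have h : a ≫ g = 0 := by
    refine (congrArg (· ≫ g) (Injective.comp_factorThru a (L.map (n • 𝟙 (freeP U))))).symm.trans ?_
    show (L.map (n • 𝟙 (freeP U)) ≫ b) ≫ g = 0
    rw [e, Category.assoc, Preadditive.nsmul_comp, Category.id_comp, ← Preadditive.comp_nsmul, hg, comp_zero]
  have h2 : freePDesc I.obj s ≫ g.hom = 0 := by
    have h3 := adj.homEquiv_naturality_right a g
    rw [h, Adjunction.homEquiv_unit] at h3
    refine (congrArg (· ≫ g.hom) ((adj.homEquiv _ _).apply_symm_apply (freePDesc I.obj s))).symm.trans ?_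
    exact h3.symm.trans comp_zero
  have h4 := congrArg (fun q : freeP U ⟶ W.obj => (q.app (op U)).hom (FreeAbelianGroup.of (𝟙 U))) h2
  refine Eq.trans ?_ h4
  show (g.hom.app (op U)).hom s = (g.hom.app (op U)).hom (FreeAbelianGroup.lift _ (FreeAbelianGroup.of (𝟙 U)))
  rw [FreeAbelianGroup.lift_apply_of]
  exact congrArg (g.hom.app (op U)).hom (ConcreteCategory.congr_hom (I.obj.map_id (op U)) s).symm

end Divisible

end Groth.Agent.TorsD16
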