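import Groth.Agent.Lib.TorsD16.Coreflect
import Groth.Agent.Lib.TorsD16.Sheaf
import Mathlib.CategoryTheory.Abelian.GrothendieckAxioms.Sheaf
import Mathlib.Algebra.Category.Grp.AB
import Mathlib.Algebra.Homology.HomologicalComplexAbelian
import Mathlib.Algebra.Homology.ShortComplex.Abelian

/-! The derived category of torsion sheaves. -/

set_option autoImplicit false
set_option linter.style.haveILetI false
set_option linter.unusedSectionVars false
set_option backward.isDefEq.respectTransparency false
set_option backward.isDefEq.respectTransparency.types false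

universe u

open CategoryTheory CategoryTheory.Limits

attribute [local instance] HasDerivedCategory.standard

noncomputable section

namespace Groth.Agent.TorsD16

variable {C : Type u} [SmallCategory C] {J : GrothendieckTopology C} [(SiteCmp.torsionSh J).IsSerreClass]
  [(torFun J).Additive]

theorem mono_nsmul_of_shortExact {S : ShortComplex (Sheaf J AddCommGrpCat.{u})} (hS : S.ShortExact)
    (F : Sheaf J AddCommGrpCat.{u}) (e : S.X₂ = F) (h₁ : SiteCmp.IsTorsionSh J S.X₁)
    (hlift : ∀ (G : Sheaf J AddCommGrpCat.{u}) (φ : G ⟶ S.X₂), SiteCmp.IsTorsionSh J G → ∃ ψ : G ⟶ S.X₁, ψ ≫ S.f = φ)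
    {n : ℕ} (hn : 0 < n) : Mono (n • 𝟙 S.X₃) := by
  haveI := hS.epi_g
  haveI := hS.mono_f
  refine Abelian.mono_of_kernel_ι_eq_zero _ ?_
  let k := kernel.ι (n • 𝟙 S.X₃)
  have hK : SiteCmp.IsTorsionSh J (kernel (n • 𝟙 S.X₃)) := by
    refine isTorsion_of_nsmul n hn ((cancel_mono k).1 ?_)
    rw [Preadditive.nsmul_comp, Category.id_comp, zero_comp]
    refine Eq.trans ?_ (kernel.condition (n • 𝟙 S.X₃))
    rw [Preadditive.comp_nsmul, Category.comp_id]
  have hker : SiteCmp.torsionSh J (kernel (pullback.snd S.g k)) := by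
    let φ := kernel.ι (pullback.snd S.g k) ≫ pullback.fst S.g k
    have hφ : φ ≫ S.g = 0 := by
      simp only [φ, Category.assoc, pullback.condition, kernel.condition_assoc, zero_comp]
    let ψ := hS.fIsKernel.lift (KernelFork.ofι φ hφ)
    have hψ : ψ ≫ S.f = φ := hS.fIsKernel.fac (KernelFork.ofι φ hφ) WalkingParallelPair.zero
    haveI : Mono ψ := ⟨fun a b hab => by
      rw [← cancel_mono (kernel.ι (pullback.snd S.g k))]
      refine pullback.hom_ext ?_ ?_
      · rw [Category.assoc, Category.assoc]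
        show a ≫ φ = b ≫ φ
        exact (((congrArg (a ≫ ·) hψ).symm.trans (Category.assoc _ _ _).symm).trans (congrArg (· ≫ S.f) hab)).trans
          ((Category.assoc _ _ _).trans (congrArg (b ≫ ·) hψ))
      · simp⟩
    exact (SiteCmp.torsionSh J).prop_of_mono ψ h₁
  have hP : SiteCmp.IsTorsionSh J (pullback S.g k) := by
    have hse : (ShortComplex.mk (kernel.ι (pullback.snd S.g k)) (pullback.snd S.g k) (kernel.condition _)).ShortExact :=
      ShortComplex.ShortExact.mk' (ShortComplex.exact_of_f_is_kernel _ (kernelIsKernel _)) inferInstance inferInstance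
    exact (SiteCmp.torsionSh J).prop_X₂_of_shortExact hse hker hK
  obtain ⟨ψ, hψ⟩ := hlift _ (pullback.fst S.g k) hP
  refine (cancel_epi (pullback.snd S.g k)).1 ?_
  refine (pullback.condition (f := S.g) (g := k)).symm.trans ?_
  rw [← hψ, Category.assoc, S.zero, comp_zero, comp_zero]

theorem quasiIso_eps (I : CochainComplex (Sheaf J AddCommGrpCat.{u}) ℤ) (hinj : ∀ n, Injective (I.X n))
    (hI : ∀ i, SiteCmp.torsionSh J (I.homology i)) :
    QuasiIso (eps (SiteCmp.torsionSh J) (torAdj J) I) := by
  let f := eps (SiteCmp.torsionSh J) (torAdj J) I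
  haveI : Mono f := by
    haveI : ∀ i, Mono (f.f i) := fun i => (inferInstance : Mono (torIncl (I.X i)))
    exact HomologicalComplex.mono_of_mono_f _ inferInstance
  let S := ShortComplex.mk f (cokernel.π f) (cokernel.condition f)
  have hS : S.ShortExact :=
    ShortComplex.ShortExact.mk' (ShortComplex.exact_of_g_is_cokernel _ (cokernelIsCokernel f)) inferInstance inferInstance
  have hiso : ∀ (n : ℕ), 0 < n → IsIso (n • 𝟙 S.X₃) := fun n hn => by
    haveI : ∀ i, IsIso ((n • 𝟙 S.X₃ : S.X₃ ⟶ S.X₃).f i) := fun i => by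
      have hSi := hS.map_of_exact (HomologicalComplex.eval _ _ i)
      have e : (n • 𝟙 S.X₃ : S.X₃ ⟶ S.X₃).f i = n • 𝟙 (S.X₃.X i) :=
        ((HomologicalComplex.eval (Sheaf J AddCommGrpCat.{u}) (ComplexShape.up ℤ) i).map_nsmul (f := 𝟙 S.X₃) (n := n)).trans rfl
      rw [e]
      haveI : Mono (n • 𝟙 (S.X₃.X i)) := mono_nsmul_of_shortExact hSi _ rfl
        (isTorsion_torObj (I.X i)) (fun G φ hG => ⟨torLift hG φ, torLift_incl hG φ⟩) hn
      haveI := hinj i
      haveI := epi_nsmul_of_injective (I.X i) hn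
      haveI : Epi ((cokernel.π f).f i) := hSi.epi_g
      haveI : Epi (n • 𝟙 (S.X₃.X i)) := by
        have h2 : (cokernel.π f).f i ≫ (n • 𝟙 (S.X₃.X i)) = (n • 𝟙 (I.X i)) ≫ (cokernel.π f).f i := by
          rw [Preadditive.comp_nsmul, Preadditive.nsmul_comp, Category.comp_id, Category.id_comp]
        exact epi_of_epi_fac h2
      exact isIso_of_mono_of_epi _
    exact HomologicalComplex.Hom.isIso_of_components _
  have h1 : ∀ i, SiteCmp.torsionSh J (S.X₁.homology i) := fun i => cohIn_Q_map _ _ i
  have hz : ∀ i, IsZero (S.X₃.homology i) := fun i => by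
    refine isZero_of_torsion ((SiteCmp.torsionSh J).prop_X₂_of_exact (hS.homology_exact₃ i (i + 1) (by simp)) (hI i) (h1 (i + 1))) fun n hn => ?_
    haveI := hiso n hn
    have e : n • 𝟙 (S.X₃.homology i) = (HomologicalComplex.homologyFunctor _ _ i).map (n • 𝟙 S.X₃) := by
      rw [Functor.map_nsmul, CategoryTheory.Functor.map_id]
      rfl
    rw [e]
    infer_instance
  refine ⟨fun i => ?_⟩
  rw [quasiIsoAt_iff_isIso_homologyMap]
  haveI : Mono (HomologicalComplex.homologyMap S.f i) :=
    (hS.homology_exact₁ (i - 1) i (by simp)).mono_g ((hz (i - 1)).eq_of_src _ _)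
  haveI : Epi (HomologicalComplex.homologyMap S.f i) := (hS.homology_exact₂ i).epi_f ((hz i).eq_of_tgt _ _)
  exact isIso_of_mono_of_epi _

theorem main_torsion :
    (WSerre.toDerived (SiteCmp.torsionSh J)).Full ∧ (WSerre.toDerived (SiteCmp.torsionSh J)).Faithful ∧
      ∀ K : DerivedCategory (Sheaf J AddCommGrpCat.{u}),
        WSerre.cohIn (SiteCmp.torsionSh J) K ↔ (WSerre.toDerived (SiteCmp.torsionSh J)).essImage K :=
  main (torAdj J) KInjLib.exists_resolution quasiIso_eps

end Groth.Agent.TorsD16

namespace Groth.Agent.TorsD16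

instance {C : Type u} [SmallCategory C] (J : GrothendieckTopology C) [(SiteCmp.torsionSh J).IsSerreClass] :
    (torFun J).Additive := (torAdj J).right_adjoint_additive

end Groth.Agent.TorsD16
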